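import Groth.Agent.L19.Approx.Zmt

/-!
# Immersions into a limit are immersions into a stage
-/

set_option autoImplicit false

universe u

open CategoryTheory CategoryTheory.Limits AlgebraicGeometry TopologicalSpace Opposite
open Groth.L19.Approx

namespace Groth.L16.ImmStage

set_option backward.isDefEq.respectTransparency.types false
set_option backward.isDefEq.respectTransparency false
set_option backward.defeqAttrib.useBackward true
set_option linter.style.haveILetI false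

/-- Affine opens inside the open where a morphism is a closed immersion. -/
theorem closed_restrict {X Y : Scheme.{u}} (j : X ⟶ Y) (O : Y.Opens) [IsClosedImmersion (j ∣_ O)]
    {V : Y.Opens} (hV : IsAffineOpen V) (hle : V ≤ O) :
    IsAffineOpen (j ⁻¹ᵁ V) ∧ Function.Surjective (j.app V).hom := by
  have h : IsClosedImmersion (j ∣_ V) := by
    have e := morphismRestrictRestrict j O (O.ι ⁻¹ᵁ V)
    have h1 : IsClosedImmersion ((j ∣_ O) ∣_ (O.ι ⁻¹ᵁ V)) := inferInstance
    have h2 := (MorphismProperty.arrow_mk_iso_iff @IsClosedImmersion e).1 h1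
    exact (show O.ι ''ᵁ (O.ι ⁻¹ᵁ V) = V by
      rw [Scheme.Hom.image_preimage_eq_opensRange_inf, Scheme.Opens.opensRange_ι, inf_eq_right.2 hle]) ▸ h2
  haveI : IsAffine (V : Scheme.{u}) := hV
  haveI := h
  refine ⟨isAffine_of_isAffineHom (j ∣_ V), ?_⟩
  have h3 : Function.Surjective ((j ∣_ V).appTop).hom := (j ∣_ V).app_surjective ⊤ (isAffineOpen_top _)
  rw [morphismRestrict_appTop] at h3
  have h4 : Function.Surjective (j.app (V.ι ''ᵁ ⊤)).hom :=
    Function.Surjective.of_comp_left (f := X.presheaf.map (eqToHom (image_morphismRestrict_preimage j V ⊤)).op) h3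
      (ConcreteCategory.bijective_of_isIso _).1
  have key : ∀ W₀ : Y.Opens, W₀ = V → Function.Surjective (j.app W₀).hom →
      Function.Surjective (j.app V).hom := by rintro W₀ rfl h; exact h
  exact key _ V.ι_image_top h4

section

variable {I : Type u} [Category.{u} I] [IsCofiltered I] {D : I ⥤ Scheme.{u}} {c : Cone D}
  [∀ {i j} (f : i ⟶ j), IsAffineHom (D.map f)]

theorem exists_isImmersion_of_closed (hc : IsLimit c) {X : Scheme.{u}} [CompactSpace X]
    (j : X ⟶ c.pt) (O : c.pt.Opens) (hOc : IsCompact (O : Set c.pt)) (hjO : ∀ x, j x ∈ O)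
    [IsImmersion j] [IsClosedImmersion (j ∣_ O)] (hft : ∀ i, LocallyOfFiniteType (j ≫ c.π.app i)) :
    ∃ k, IsImmersion (j ≫ c.π.app k) := by
  classical
  obtain ⟨i, W, hWc, hW⟩ :=
    exists_preimage_eq D c hc O hOc
  obtain ⟨s, hsfin, hs⟩ := exists_finite_affineOpens hWc
  haveI : Finite s := hsfin.to_subtype
  let u := j ≫ c.π.app i
  have hVW : ∀ V : s, V.1.1 ≤ W := fun V z hz =>
    hs.ge (Opens.mem_iSup.mpr ⟨⟨V.1, V.2⟩, hz⟩)
  have hle : ∀ V : s, c.π.app i ⁻¹ᵁ V.1.1 ≤ O := fun V => by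
    rw [← hW]; exact fun z hz => hVW V hz
  have hgen : ∀ V : s, ∃ E : Finset Γ(c.pt, c.π.app i ⁻¹ᵁ V.1.1),
      ∀ R : Subring Γ(X, u ⁻¹ᵁ V.1.1), (∀ y, u.app V.1.1 y ∈ R) →
        (∀ x ∈ E, j.app (c.π.app i ⁻¹ᵁ V.1.1) x ∈ R) → R = ⊤ := by
    intro V
    haveI := hft i
    haveI := isAffineHom_π_app D c hc i
    obtain ⟨haff', hsj⟩ := closed_restrict j O (V.1.2.preimage (c.π.app i)) (hle V)
    have haff : IsAffineOpen (u ⁻¹ᵁ V.1.1) := haff'
    have h : (u.app V.1.1).hom.FiniteType := by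
      rw [Scheme.Hom.app_eq_appLE]
      exact LocallyOfFiniteType.finiteType_appLE u V.1.2 haff le_rfl
    letI := (u.app V.1.1).hom.toAlgebra
    obtain ⟨E, hE⟩ := (h : Algebra.FiniteType Γ(D.obj i, V.1.1) Γ(X, u ⁻¹ᵁ V.1.1)).1
    refine ⟨E.image (Function.surjInv hsj), fun R h1 h2 => eq_top_iff.mpr fun z _ => ?_⟩
    have hz : z ∈ Algebra.adjoin Γ(D.obj i, V.1.1) (E : Set Γ(X, u ⁻¹ᵁ V.1.1)) :=
      hE ▸ Algebra.mem_top
    induction hz using Algebra.adjoin_induction with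
    | mem x hx =>
      have := h2 _ (Finset.mem_image_of_mem _ hx)
      rwa [Function.surjInv_eq hsj] at this
    | algebraMap r => exact h1 r
    | add a b _ _ ha hb => exact add_mem (ha trivial) (hb trivial)
    | mul a b _ _ ha hb => exact mul_mem (ha trivial) (hb trivial)
  choose E hE using hgen
  have hst : ∀ x : Σ V : s, E V, ∃ k : Over i, ∀ (l : Over i), (l ⟶ k) →
      ∃ (h : c.π.app i ⁻¹ᵁ x.1.1.1 ≤ c.π.app l.left ⁻¹ᵁ (D.map l.hom ⁻¹ᵁ x.1.1.1))
        (y : Γ(D.obj l.left, D.map l.hom ⁻¹ᵁ x.1.1.1)),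
        (c.π.app l.left).appLE (D.map l.hom ⁻¹ᵁ x.1.1.1) (c.π.app i ⁻¹ᵁ x.1.1.1) h y = x.2.1 := by
    rintro ⟨V, r, hr⟩
    obtain ⟨k, h, y, hy⟩ := exists_appLE_eq hc i V.1.2 r
    refine ⟨k, fun l g => ?_⟩
    have hw : D.map g.left ≫ D.map k.hom = D.map l.hom := by rw [← D.map_comp, Over.w g]
    have hπ : c.π.app l.left ≫ D.map g.left = c.π.app k.left := c.w g.left
    have h' : c.π.app i ⁻¹ᵁ V.1.1 ≤ c.π.app l.left ⁻¹ᵁ (D.map l.hom ⁻¹ᵁ V.1.1) := by
      rw [← Scheme.Hom.comp_preimage, c.w]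
    have e : D.map l.hom ⁻¹ᵁ V.1.1 ≤ D.map g.left ⁻¹ᵁ (D.map k.hom ⁻¹ᵁ V.1.1) := by
      rw [← hw, Scheme.Hom.comp_preimage]
    refine ⟨h', (D.map g.left).appLE _ _ e y, ?_⟩
    rw [← CommRingCat.comp_apply, Scheme.Hom.appLE_comp_appLE, appLE_congr_hom hπ]
    exact hy
  choose kx hkx using hst
  haveI : Finite (Σ V : s, E V) := inferInstance
  obtain ⟨k, hk⟩ := IsCofiltered.inf_objs_exists
    ((Set.finite_range kx).toFinset : Finset (Over i))
  let uk := j ≫ c.π.app k.left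
  let Wk : (D.obj k.left).Opens := D.map k.hom ⁻¹ᵁ W
  have hrange : Set.range uk ⊆ Set.range Wk.ι := by
    rw [Scheme.Opens.range_ι]
    rintro _ ⟨x, rfl⟩
    show D.map k.hom (uk x) ∈ W
    rw [← Scheme.Hom.comp_apply, show uk ≫ D.map k.hom = j ≫ c.π.app i by simp [uk]]
    have : j x ∈ c.π.app i ⁻¹ᵁ W := by rw [hW]; exact hjO x
    exact this
  let l : X ⟶ Wk.toScheme := IsOpenImmersion.lift Wk.ι uk hrange
  have hl : l ≫ Wk.ι = uk := IsOpenImmersion.lift_fac _ _ _
  let U : s → Wk.toScheme.affineOpens := fun V =>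
    ⟨Wk.ι ⁻¹ᵁ (D.map k.hom ⁻¹ᵁ V.1.1), (V.1.2.preimage (D.map k.hom)).preimage_of_isOpenImmersion
      Wk.ι (by rw [Scheme.Opens.opensRange_ι]; exact fun z hz => hVW V hz)⟩
  haveI : IsClosedImmersion l := by
    refine (HasAffineProperty.iff_of_iSup_eq_top (P := @IsClosedImmersion) U ?_).mpr fun V => ?_
    · refine top_le_iff.mp fun z _ => ?_
      obtain ⟨⟨V, hV⟩, hzV⟩ := Opens.mem_iSup.mp (hs.le (show D.map k.hom z.1 ∈ W from z.2))
      exact Opens.mem_iSup.mpr ⟨⟨V, hV⟩, hzV⟩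
    have hpre : l ⁻¹ᵁ (U V).1 = u ⁻¹ᵁ V.1.1 := by
      show l ⁻¹ᵁ (Wk.ι ⁻¹ᵁ (D.map k.hom ⁻¹ᵁ V.1.1)) = _
      rw [← Scheme.Hom.comp_preimage, hl, ← Scheme.Hom.comp_preimage]
      simp [uk, u]
    refine ⟨?_, ?_⟩
    · show IsAffineOpen (l ⁻¹ᵁ (U V).1)
      rw [hpre]
      haveI := isAffineHom_π_app D c hc i
      exact (closed_restrict j O (V.1.2.preimage (c.π.app i)) (hle V)).1
    · have e : u ⁻¹ᵁ V.1.1 ≤ uk ⁻¹ᵁ (D.map k.hom ⁻¹ᵁ V.1.1) := by
        rw [← Scheme.Hom.comp_preimage]; simp [uk, u]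
      have hsurj : Function.Surjective
          (uk.appLE (D.map k.hom ⁻¹ᵁ V.1.1) (u ⁻¹ᵁ V.1.1) e).hom := by
        rw [← RingHom.range_eq_top]
        refine hE V _ (fun y => ⟨(D.map k.hom).app V.1.1 y, ?_⟩) fun x hx => ?_
        · rw [Scheme.Hom.app_eq_appLE, Scheme.Hom.app_eq_appLE, ← CommRingCat.comp_apply,
            Scheme.Hom.appLE_comp_appLE,
            appLE_congr_hom (show uk ≫ D.map k.hom = u by simp [uk, u])]
        · obtain ⟨g⟩ : Nonempty (k ⟶ kx ⟨V, x, hx⟩) :=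
            hk ((Set.Finite.mem_toFinset _).mpr ⟨_, rfl⟩)
          obtain ⟨h, y, hy⟩ := hkx ⟨V, x, hx⟩ k g
          dsimp only at hy
          refine ⟨y, ?_⟩
          have := congrArg (j.app (c.π.app i ⁻¹ᵁ V.1.1)) hy
          rw [Scheme.Hom.app_eq_appLE] at this ⊢
          refine Eq.trans ?_ this
          exact (congr($(Scheme.Hom.appLE_comp_appLE j (c.π.app k.left) _ _ _ h le_rfl) y)).symm
      refine surjective_morphismRestrict_appTop _ _ ?_
      have h1 : Function.Surjective ((l ≫ Wk.ι).app (D.map k.hom ⁻¹ᵁ V.1.1)).hom :=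
        surjective_app_congr hl.symm _ (surjective_app_of_appLE ⊤ (by
          rw [← Scheme.Hom.comp_preimage]; simp [uk, u]) hsurj)
      rw [Scheme.Hom.comp_app, CommRingCat.hom_comp, RingHom.coe_comp] at h1
      exact Function.Surjective.of_comp h1
  exact ⟨k.left, show IsImmersion uk from hl ▸ inferInstance⟩

end

/-- An immersion into the relative normalization gives an immersion into a finite scheme. -/
theorem exists_immersion_finite {X S : Scheme.{u}} (f : X ⟶ S) [CompactSpace S]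
    [QuasiSeparatedSpace S] [LocallyOfFiniteType f] [QuasiCompact f]
    [IsSeparated f] [hj : IsImmersion f.toNormalization] :
    ∃ (T : Scheme.{u}) (j : X ⟶ T) (π : T ⟶ S), IsImmersion j ∧ IsFinite π ∧ j ≫ π = f := by
  let h := f.fromNormalization
  let j := f.toNormalization
  haveI : CompactSpace X := QuasiCompact.compactSpace_of_compactSpace f
  haveI : QuasiSeparatedSpace X := quasiSeparatedSpace_of_quasiSeparated f
  obtain ⟨O, hOc, hjO, hOle⟩ : ∃ O : f.normalization.Opens, IsCompact (O : Set f.normalization) ∧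
      (∀ x, j x ∈ O) ∧ O ≤ j.coborderRange := by
    have : ∀ x : X, ∃ A : f.normalization.affineOpens, j x ∈ A.1 ∧ A.1 ≤ j.coborderRange := fun x => by
      obtain ⟨_, ⟨A, hA, rfl⟩, hxA, hAle⟩ := f.normalization.isBasis_affineOpens.exists_subset_of_mem_open
        (subset_coborder (Set.mem_range_self x) : j x ∈ j.coborderRange) j.coborderRange.isOpen
      exact ⟨⟨A, hA⟩, hxA, hAle⟩
    choose A hA hAle using this
    obtain ⟨t, ht⟩ := isCompact_univ.elim_finite_subcover (fun x => ((j ⁻¹ᵁ (A x).1 : X.Opens) : Set X))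
      (fun x => (j ⁻¹ᵁ (A x).1).isOpen) (fun x _ => Set.mem_iUnion.2 ⟨x, hA x⟩)
    refine ⟨⨆ x ∈ t, (A x).1, ?_, fun x => ?_, iSup₂_le fun x _ => hAle x⟩
    · simp only [Opens.coe_iSup]
      exact t.isCompact_biUnion fun x _ => (A x).2.isCompact
    · obtain ⟨y, hy, hxy⟩ := Set.mem_iUnion₂.1 (ht (Set.mem_univ x))
      exact Opens.mem_iSup.2 ⟨y, Opens.mem_iSup.2 ⟨hy, hxy⟩⟩
  haveI : IsClosedImmersion (j ∣_ O) := by
    haveI : IsImmersion (j ∣_ O) :=
      MorphismProperty.of_isPullback (isPullback_morphismRestrict j O).flip inferInstance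
    refine IsClosedImmersion.of_isPreimmersion _ ?_
    have hr : Set.range (j ∣_ O) = Subtype.val ⁻¹' Set.range j := by
      ext z
      constructor
      · rintro ⟨x, rfl⟩
        exact ⟨x.1, (morphismRestrict_base_coe j O x).symm⟩
      · rintro ⟨x, hx⟩
        exact ⟨⟨x, show j x ∈ O from hx ▸ z.2⟩,
          Subtype.ext ((morphismRestrict_base_coe j O _).trans hx)⟩
    rw [hr]
    have hcl : IsClosed (Subtype.val ⁻¹' Set.range j : Set (coborder (Set.range j))) :=
      isClosed_preimage_val_coborder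
    exact hcl.preimage (f := fun z : O => (⟨z.1, hOle z.2⟩ : coborder (Set.range j))) (by fun_prop)
  have hcof : Cofinal h (@IsFinite : MorphismProperty Scheme.{u}) := fun {_} => cofinal_isFinite h
  haveI := isDirected_idx hcof
  haveI := nonempty_idx hcof
  let D := system h (@IsFinite : MorphismProperty Scheme.{u})
  let F := D ⋙ Over.forget S
  let c := (Over.forget S).mapCone (cone h (@IsFinite : MorphismProperty Scheme.{u}))
  haveI : IsConnected (Idx h (@IsFinite : MorphismProperty Scheme.{u}))ᵒᵖ :=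
    IsCofiltered.isConnected _
  have hc : IsLimit c := isLimitOfPreserves (Over.forget S) (nonempty_isLimit_cone h _ hcof).some
  haveI : ∀ i, IsFinite (D.obj i).hom := fun i => prop_system_hom h _ i
  haveI : ∀ {i i'} (a : i ⟶ i'), IsAffineHom (F.map a) := fun a => isAffineHom_system_map h _ a
  have hw : ∀ i, c.π.app i ≫ (D.obj i).hom = h := fun i =>
    Over.w ((cone h (@IsFinite : MorphismProperty Scheme.{u})).π.app i)
  have hft : ∀ i, LocallyOfFiniteType ((j : X ⟶ c.pt) ≫ c.π.app i) := fun i => by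
    haveI : LocallyOfFiniteType (((j : X ⟶ c.pt) ≫ c.π.app i) ≫ (D.obj i).hom) := by
      rw [Category.assoc, hw i]
      exact (f.toNormalization_fromNormalization).symm ▸ (inferInstance : LocallyOfFiniteType f)
    exact locallyOfFiniteType_of_comp _ (D.obj i).hom
  haveI : IsImmersion (j : X ⟶ c.pt) := hj
  haveI : IsClosedImmersion ((j : X ⟶ c.pt) ∣_ O) := ‹IsClosedImmersion (j ∣_ O)›
  obtain ⟨k, hk⟩ := exists_isImmersion_of_closed hc (j : X ⟶ c.pt) O hOc hjO hft
  exact ⟨(D.obj k).left, (j : X ⟶ c.pt) ≫ c.π.app k, (D.obj k).hom, hk, inferInstance,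
    (Category.assoc _ _ _).trans ((congrArg (_ ≫ ·) (hw k)).trans f.toNormalization_fromNormalization)⟩

end Groth.L16.ImmStage
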